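import Cfsg.Agent.NinePQ.Four.Main
import Cfsg.Agent.NinePQ.Inv.Block
import Cfsg.Agent.Lib.Involution.Counting

/-!
# At least three classes of nontrivial `3`-elements: the two possible automisers
-/

set_option autoImplicit false
set_option linter.style.haveILetI false
set_option linter.unusedSectionVars false

namespace Cfsg.Agent.NinePQ

open Subgroup

variable {G : Type*} [Group G] [Fintype G] [Fact (Nat.Prime 3)]

theorem eq_one_of_fixed [IsSimpleGroup G] (hG : ¬ IsMulCommutative G) {P : Sylow 3 G}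
    (hP : IsMulCommutative (P : Subgroup G)) {z : G} (hz : z ∈ (P : Subgroup G))
    (hfix : ∀ n ∈ normalizer ((P : Subgroup G) : Set G), n * z * n⁻¹ = z) : z = 1 := by
  letI : CommGroup (P : Subgroup G) :=
    { (inferInstance : Group (P : Subgroup G)) with mul_comm := hP.is_comm.comm }
  set τ := MonoidHom.transfer (MonoidHom.id (P : Subgroup G))
  have hkey : ∀ (k : ℕ) (g₀ : G), g₀⁻¹ * z ^ k * g₀ ∈ (P : Subgroup G) →
      g₀⁻¹ * z ^ k * g₀ = z ^ k := by
    intro k g₀ hg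
    obtain ⟨n, hn, he⟩ := Transfer.conj_normalizer_of_abelian P hP (g := g₀⁻¹)
      (pow_mem hz k) (by rw [inv_inv]; exact hg)
    rw [inv_inv] at he
    rw [← he, ← conj_pow, hfix n hn]
  have htr := MonoidHom.transfer_eq_pow (MonoidHom.id (P : Subgroup G)) z hkey
  have hpow : z ^ (P : Subgroup G).index = 1 := by
    rcases (inferInstance : τ.ker.Normal).eq_bot_or_eq_top with h | h
    · exfalso
      have hinj : Function.Injective τ := (MonoidHom.ker_eq_bot_iff τ).mp h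
      exact hG ⟨⟨fun x y => hinj (by
        rw [map_mul, map_mul]
        exact Subtype.ext (congrArg Subtype.val (hP.is_comm.comm (τ x) (τ y))))⟩⟩
    · have h1 : τ z = 1 := (h.symm ▸ mem_top z : z ∈ τ.ker)
      have h2 := congrArg Subtype.val (htr.symm.trans h1)
      exact h2
  obtain ⟨k, hk⟩ := IsPGroup.iff_orderOf.mp P.2 ⟨z, hz⟩
  rw [Subgroup.orderOf_mk] at hk
  have h1 : orderOf z ∣ (P : Subgroup G).index := orderOf_dvd_of_pow_eq_one hpow
  rw [hk] at h1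
  rcases Nat.eq_zero_or_pos k with rfl | hk0
  · exact orderOf_eq_one_iff.mp (by simpa using hk)
  · exact absurd ((dvd_pow_self 3 hk0.ne').trans h1) (P.not_dvd_index' FiniteIndex.index_ne_zero)

/-- The automiser is either `±1` or the diagonal four-group. -/
theorem dichotomy [IsSimpleGroup G] (hG : ¬ IsMulCommutative G) {P : Sylow 3 G}
    (hP9 : Nat.card (P : Subgroup G) = 9)
    (h3 : 3 ≤ Nat.card {C : ConjClasses G // ∃ g ∈ C.carrier, g ≠ 1 ∧ orderOf g ∣ 9}) :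
    Inv.Inverted P ∨ ∃ u v, Four.Diag P u v := by
  classical
  have hP : IsMulCommutative (P : Subgroup G) :=
    IsPGroup.isMulCommutative_of_card_eq_prime_sq (p := 3) (by rw [hP9]; norm_num)
  have hcomm : ∀ x ∈ (P : Subgroup G), ∀ y ∈ (P : Subgroup G), x * y = y * x :=
    fun x hx y hy => congrArg Subtype.val (hP.is_comm.comm ⟨x, hx⟩ ⟨y, hy⟩)
  set N := normalizer ((P : Subgroup G) : Set G) with hN
  set S : Finset G := Finset.univ.filter fun y => y ∈ (P : Subgroup G) ∧ y ≠ 1 with hS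
  have hS8 : S.card = 8 := by
    have h1 : S = (Finset.univ.filter fun y => y ∈ (P : Subgroup G)).erase 1 := by
      ext y; simp [hS, and_comm]
    rw [h1, Finset.card_erase_of_mem (by simp), ← Fintype.card_subtype,
      ← Nat.card_eq_fintype_card, hP9]
  set F : ConjClasses G → Finset G := fun C => S.filter fun y => ConjClasses.mk y = C with hF
  have hFmem : ∀ {C y}, y ∈ F C ↔ (y ∈ (P : Subgroup G) ∧ y ≠ 1) ∧ ConjClasses.mk y = C := by
    simp [hF, hS]
  have hperm : ∀ {C y}, y ∈ F C → ∀ n ∈ N, n * y * n⁻¹ ∈ F C := by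
    intro C y hy n hn
    obtain ⟨⟨hyP, hy1⟩, hC⟩ := hFmem.mp hy
    exact hFmem.mpr ⟨⟨(mem_normalizer_iff.mp hn y).mp hyP, fun h => hy1 (conj_eq_one_iff.mp h)⟩,
      (ConjClasses.mk_eq_mk_iff_isConj.mpr (isConj_iff.mpr ⟨n, rfl⟩)).symm.trans hC⟩
  set t := S.image ConjClasses.mk with ht
  have ht3 : 3 ≤ t.card := by
    refine h3.trans ?_
    rw [← Nat.card_eq_finsetCard]
    have hex : ∀ C : {C : ConjClasses G // ∃ g ∈ C.carrier, g ≠ 1 ∧ orderOf g ∣ 9}, C.1 ∈ t := by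
      rintro ⟨C, g, hgC, hg1, hg9⟩
      obtain ⟨k, -, hk⟩ := (Nat.dvd_prime_pow Nat.prime_three).mp
        (show orderOf g ∣ 3 ^ 2 by simpa using hg9)
      obtain ⟨c, hc⟩ := Transfer.exists_conj_mem_sylow P hk
      refine Finset.mem_image.mpr ⟨c * g * c⁻¹,
        Finset.mem_filter.mpr ⟨Finset.mem_univ _, hc, fun h => hg1 (conj_eq_one_iff.mp h)⟩, ?_⟩
      show ConjClasses.mk (c * g * c⁻¹) = C
      rw [← ConjClasses.mem_carrier_iff_mk_eq.mp hgC]
      exact (ConjClasses.mk_eq_mk_iff_isConj.mpr (isConj_iff.mpr ⟨c, rfl⟩)).symm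
    exact Nat.card_le_card_of_injective (fun C => (⟨C.1, hex C⟩ : t))
      fun C C' h => Subtype.ext (congrArg (fun x : t => x.1) h)
  -- fibres
  have hfib : ∀ C ∈ t, (F C).card = 2 ∨ 4 ≤ (F C).card := by
    intro C hC
    obtain ⟨x, hx, hxC⟩ := Finset.mem_image.mp hC
    have hxF : x ∈ F C := Finset.mem_filter.mpr ⟨hx, hxC⟩
    obtain ⟨⟨hxP, hx1⟩, -⟩ := hFmem.mp hxF
    have h0 : 0 < (F C).card := Finset.card_pos.mpr ⟨x, hxF⟩
    have h1 : (F C).card ≠ 1 := by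
      intro h1
      obtain ⟨w, hw⟩ := Finset.card_eq_one.mp h1
      refine hx1 (eq_one_of_fixed hG hP hxP fun n hn => ?_)
      have e1 := hperm hxF n hn
      rw [hw, Finset.mem_singleton] at e1 hxF
      rw [e1, hxF]
    have h3' : ¬ 3 ∣ (F C).card := by
      have hxN : x ∈ N := le_normalizer hxP
      have hmul := Involution.card_isConj_mul_card_centralizer (G := N) ⟨x, hxN⟩
      have hK : Nat.card {y : N // IsConj (⟨x, hxN⟩ : N) y} = (F C).card := by
        rw [← Nat.card_eq_finsetCard]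
        refine Nat.card_eq_of_bijective (fun y => (⟨(y.1 : G), ?_⟩ : F C)) ⟨?_, ?_⟩
        · obtain ⟨n, hn⟩ := isConj_iff.mp y.2
          rw [← hn]
          exact hperm hxF n n.2
        · intro y y' h
          exact Subtype.ext (Subtype.ext (congrArg (fun z : F C => z.1) h))
        · rintro ⟨y, hy⟩
          obtain ⟨⟨hyP, -⟩, hyC⟩ := hFmem.mp hy
          obtain ⟨g, hg⟩ := isConj_iff.mp (ConjClasses.mk_eq_mk_iff_isConj.mp (hxC.trans hyC.symm))
          obtain ⟨n, hn, he⟩ := Transfer.conj_normalizer_of_abelian P hP hxP (hg.symm ▸ hyP)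
          exact ⟨⟨⟨y, le_normalizer hyP⟩, isConj_iff.mpr ⟨⟨n, hn⟩, Subtype.ext (he.trans hg)⟩⟩, rfl⟩
      rw [hK] at hmul
      intro hdvd
      have h9 : 9 ∣ Nat.card (centralizer ({(⟨x, hxN⟩ : N)} : Set N)) := by
        have hle : (P : Subgroup G).subgroupOf N ≤ centralizer ({(⟨x, hxN⟩ : N)} : Set N) :=
          fun y hy => mem_centralizer_singleton_iff.mpr (Subtype.ext (hcomm _ hy x hxP))
        have := card_dvd_of_le hle
        rwa [Nat.card_congr (subgroupOfEquivOfLe le_normalizer).toEquiv, hP9] at this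
      have h27 : 3 * 9 ∣ Nat.card G :=
        ((mul_dvd_mul hdvd h9).trans (dvd_of_eq hmul)).trans (card_subgroup_dvd_card N)
      have h27' : 3 ^ 3 ∣ Nat.card G := by simpa using h27
      have h4 := P.card_eq_multiplicity
      rw [hP9] at h4
      have h5 := (Nat.prime_three.pow_dvd_iff_le_factorization Nat.card_pos.ne').mp h27'
      have h6 : 3 ^ 3 ≤ 9 := by rw [h4]; exact Nat.pow_le_pow_right (by norm_num) h5
      norm_num at h6
    omega
  have hsum : ∑ C ∈ t, (F C).card = 8 := by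
    rw [← hS8, ← Finset.card_eq_sum_card_image]
  obtain ⟨C₁, C₂, hne, hC₁, hC₂⟩ : ∃ C₁ C₂, C₁ ≠ C₂ ∧ (F C₁).card = 2 ∧ (F C₂).card = 2 := by
    set t2 := t.filter fun C => (F C).card = 2
    suffices 1 < t2.card by
      obtain ⟨C₁, h1, C₂, h2, hne⟩ := Finset.one_lt_card.mp this
      exact ⟨C₁, C₂, hne, (Finset.mem_filter.mp h1).2, (Finset.mem_filter.mp h2).2⟩
    have h4 : 4 * t.card ≤ ∑ C ∈ t, ((F C).card + if (F C).card = 2 then 2 else 0) := by
      rw [mul_comm, ← smul_eq_mul, ← Finset.sum_const]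
      exact Finset.sum_le_sum fun C hC => by rcases hfib C hC with e | e <;> split_ifs <;> omega
    rw [Finset.sum_add_distrib, hsum, ← Finset.sum_filter, Finset.sum_const, smul_eq_mul] at h4
    show 1 < (t.filter fun C => (F C).card = 2).card
    omega
  have hpair : ∀ C, (F C).card = 2 → ∃ x, x ∈ (P : Subgroup G) ∧ x ≠ 1 ∧ ConjClasses.mk x = C ∧
      ConjClasses.mk x⁻¹ = C ∧ ∀ n ∈ N, n * x * n⁻¹ = x ∨ n * x * n⁻¹ = x⁻¹ := by
    intro C hC
    obtain ⟨x, x', hxx, he⟩ := Finset.card_eq_two.mp hC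
    have hxF : x ∈ F C := he ▸ Finset.mem_insert_self _ _
    have hx'F : x' ∈ F C := he ▸ Finset.mem_insert_of_mem (Finset.mem_singleton_self _)
    obtain ⟨⟨hxP, hx1⟩, hxC⟩ := hFmem.mp hxF
    obtain ⟨⟨hx'P, hx'1⟩, hx'C⟩ := hFmem.mp hx'F
    have hm : ∀ n ∈ N, (n * x * n⁻¹ = x ∨ n * x * n⁻¹ = x') ∧
        (n * x' * n⁻¹ = x ∨ n * x' * n⁻¹ = x') := fun n hn => by
      have e1 := hperm hxF n hn
      have e2 := hperm hx'F n hn
      rw [he, Finset.mem_insert, Finset.mem_singleton] at e1 e2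
      exact ⟨e1, e2⟩
    have hinv : x' = x⁻¹ := by
      refine (inv_eq_of_mul_eq_one_right (eq_one_of_fixed hG hP (mul_mem hxP hx'P) fun n hn => ?_)).symm
      obtain ⟨e1, e2⟩ := hm n hn
      rw [← conj_mul]
      rcases e1 with e1 | e1 <;> rcases e2 with e2 | e2
      · exact absurd (mul_left_cancel (mul_right_cancel (e1.trans e2.symm))) hxx
      · rw [e1, e2]
      · rw [e1, e2]; exact hcomm _ hx'P _ hxP
      · exact absurd (mul_left_cancel (mul_right_cancel (e1.trans e2.symm))) hxx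
    exact ⟨x, hxP, hx1, hxC, hinv ▸ hx'C, fun n hn => hinv ▸ (hm n hn).1⟩
  obtain ⟨x, hxP, hx1, hxC, hxC', hx⟩ := hpair C₁ hC₁
  obtain ⟨y, hyP, hy1, hyC, -, hy⟩ := hpair C₂ hC₂
  have hflip : ∀ z ∈ (P : Subgroup G), z ≠ 1 → (∀ n ∈ N, n * z * n⁻¹ = z ∨ n * z * n⁻¹ = z⁻¹) →
      ∃ n ∈ N, n * z * n⁻¹ = z⁻¹ := by
    intro z hz hz1 hzn
    by_contra hno
    push Not at hno
    exact hz1 (eq_one_of_fixed hG hP hz fun n hn => (hzn n hn).resolve_right (hno n hn))
  have hcyc : ∀ z ∈ (P : Subgroup G), z ≠ 1 → (∀ n ∈ N, n * z * n⁻¹ = z ∨ n * z * n⁻¹ = z⁻¹) →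
      orderOf z = 9 → Inv.Inverted P := by
    intro z hz hz1 hzn h9
    have he : zpowers z = (P : Subgroup G) :=
      eq_of_le_of_card_ge (zpowers_le.mpr hz) (by rw [Nat.card_zpowers, h9, hP9])
    refine ⟨hP9, fun n hn => ?_, ?_⟩
    · rcases hzn n hn with e | e
      · left
        intro w hw
        obtain ⟨k, rfl⟩ := he.ge hw
        rw [show n * z ^ k * n⁻¹ = (n * z * n⁻¹) ^ k from conj_zpow.symm, e]
      · right
        intro w hw
        obtain ⟨k, rfl⟩ := he.ge hw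
        rw [show n * z ^ k * n⁻¹ = (n * z * n⁻¹) ^ k from conj_zpow.symm, e, inv_zpow]
    · obtain ⟨n, hn, e⟩ := hflip z hz hz1 hzn
      refine ⟨n, hn, fun w hw => ?_⟩
      obtain ⟨k, rfl⟩ := he.ge hw
      rw [show n * z ^ k * n⁻¹ = (n * z * n⁻¹) ^ k from conj_zpow.symm, e, inv_zpow]
  have hord : ∀ z ∈ (P : Subgroup G), z ≠ 1 → orderOf z = 3 ∨ orderOf z = 9 := by
    intro z hz hz1
    have := orderOf_dvd_natCard (⟨z, hz⟩ : (P : Subgroup G))
    rw [hP9, Subgroup.orderOf_mk] at this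
    obtain ⟨k, hk, e⟩ := (Nat.dvd_prime_pow Nat.prime_three).mp (show orderOf z ∣ 3 ^ 2 by simpa using this)
    rcases (show k = 0 ∨ k = 1 ∨ k = 2 by omega) with rfl | rfl | rfl
    · exact absurd (orderOf_eq_one_iff.mp (by simpa using e)) hz1
    · exact Or.inl (by simpa using e)
    · exact Or.inr (by simpa using e)
  rcases hord x hxP hx1 with hx3 | hx9
  swap
  · exact Or.inl (hcyc x hxP hx1 hx hx9)
  rcases hord y hyP hy1 with hy3 | hy9
  swap
  · exact Or.inl (hcyc y hyP hy1 hy hy9)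
  have hxpow : x ^ 3 = 1 := hx3 ▸ pow_orderOf_eq_one x
  have hypow : y ^ 3 = 1 := hy3 ▸ pow_orderOf_eq_one y
  have hindep : y ∉ zpowers x := by
    intro hmem
    obtain ⟨k, hk⟩ := mem_powers_iff_mem_zpowers.mpr hmem
    simp only at hk
    rw [← pow_mod_orderOf, hx3] at hk
    rcases (show k % 3 = 0 ∨ k % 3 = 1 ∨ k % 3 = 2 by omega) with e | e | e <;> rw [e] at hk
    · exact hy1 (by rw [← hk, pow_zero])
    · exact hne (by rw [← hyC, ← hk, pow_one, hxC])
    · exact hne (by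
        rw [← hyC, ← hk, show x ^ 2 = x⁻¹ from eq_inv_of_mul_eq_one_left (by rw [← pow_succ, hxpow]),
          hxC'])
  have hgen : ∀ w ∈ (P : Subgroup G), ∃ i j : ℕ, i < 3 ∧ j < 3 ∧ w = x ^ i * y ^ j := by
    intro w hw
    let f : Fin 3 × Fin 3 → (P : Subgroup G) := fun p =>
      ⟨x ^ (p.1 : ℕ) * y ^ (p.2 : ℕ), mul_mem (pow_mem hxP _) (pow_mem hyP _)⟩
    have hinj : Function.Injective f := by
      rintro ⟨i, j⟩ ⟨i', j'⟩ h
      have h' : x ^ (i : ℕ) * y ^ (j : ℕ) = x ^ (i' : ℕ) * y ^ (j' : ℕ) := congrArg Subtype.val h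
      have h2 : y ^ ((j : ℤ) - (j' : ℤ)) ∈ zpowers x := by
        rw [show y ^ ((j : ℤ) - (j' : ℤ)) = (x ^ (i : ℕ))⁻¹ * (x ^ (i' : ℕ)) from ?_]
        · exact mul_mem (inv_mem (pow_mem (mem_zpowers x) _)) (pow_mem (mem_zpowers x) _)
        · rw [zpow_sub, zpow_natCast, zpow_natCast, mul_inv_eq_iff_eq_mul, mul_assoc, ← h',
            inv_mul_cancel_left]
      have hj : j = j' := by
        by_contra hne'
        have hlt := j.2
        have hlt' := j'.2
        have hne'' : (j : ℕ) ≠ (j' : ℕ) := fun e => hne' (Fin.ext e)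
        rcases Nat.lt_or_ge (j : ℕ) (j' : ℕ) with hl | hl
        · rw [show (j : ℤ) - (j' : ℤ) = -(((j' : ℕ) - (j : ℕ) : ℕ) : ℤ) by omega, zpow_neg,
            zpow_natCast, inv_mem_iff] at h2
          exact hindep (Four.pow_mem_iff hy3 h2 (by omega))
        · rw [show (j : ℤ) - (j' : ℤ) = (((j : ℕ) - (j' : ℕ) : ℕ) : ℤ) by omega, zpow_natCast] at h2
          exact hindep (Four.pow_mem_iff hy3 h2 (by omega))
      subst hj
      have hi : x ^ (i : ℕ) = x ^ (i' : ℕ) := mul_right_cancel h'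
      have := pow_inj_mod.mp hi
      rw [hx3, Nat.mod_eq_of_lt i.2, Nat.mod_eq_of_lt i'.2] at this
      exact Prod.ext (Fin.ext this) rfl
    have hbij : Function.Bijective f :=
      hinj.bijective_of_nat_card_le (by rw [hP9]; simp)
    obtain ⟨⟨i, j⟩, hij⟩ := hbij.2 ⟨w, hw⟩
    exact ⟨i, j, i.2, j.2, (congrArg Subtype.val hij).symm⟩
  have hact : ∀ n, ∀ (s : G), n * x * n⁻¹ = x → n * y * n⁻¹ = y → s ∈ (P : Subgroup G) →
      n * s * n⁻¹ = s := by
    intro n s h1 h2 hs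
    obtain ⟨i, j, -, -, rfl⟩ := hgen s hs
    rw [← conj_mul, ← conj_pow, ← conj_pow, h1, h2]
  have hact' : ∀ n, ∀ (s : G), n * x * n⁻¹ = x⁻¹ → n * y * n⁻¹ = y⁻¹ → s ∈ (P : Subgroup G) →
      n * s * n⁻¹ = s⁻¹ := by
    intro n s h1 h2 hs
    obtain ⟨i, j, -, -, rfl⟩ := hgen s hs
    rw [← conj_mul, ← conj_pow, ← conj_pow, h1, h2, inv_pow, inv_pow, mul_inv_rev]
    exact hcomm _ (inv_mem (pow_mem hxP i)) _ (inv_mem (pow_mem hyP j))
  by_cases hmix : ∀ n ∈ N, (n * x * n⁻¹ = x → n * y * n⁻¹ = y) ∧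
      (n * x * n⁻¹ = x⁻¹ → n * y * n⁻¹ = y⁻¹)
  · left
    refine ⟨hP9, fun n hn => ?_, ?_⟩
    · rcases hx n hn with e | e
      · exact Or.inl fun s hs => hact n s e ((hmix n hn).1 e) hs
      · exact Or.inr fun s hs => hact' n s e ((hmix n hn).2 e) hs
    · obtain ⟨n, hn, e⟩ := hflip x hxP hx1 hx
      exact ⟨n, hn, fun s hs => hact' n s e ((hmix n hn).2 e) hs⟩
  right
  have hstruct : ∀ n ∈ N, ∀ m ∈ N, n * x * n⁻¹ = x → n * y * n⁻¹ = y⁻¹ →
      m * x * m⁻¹ = x⁻¹ → ∃ k ∈ N, k * x * k⁻¹ = x⁻¹ ∧ k * y * k⁻¹ = y := by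
    intro n hn m hm n1 n2 m1
    rcases hy m hm with m2 | m2
    · exact ⟨m, hm, m1, m2⟩
    · refine ⟨m * n, mul_mem hm hn, ?_, ?_⟩
      · rw [show m * n * x * (m * n)⁻¹ = m * (n * x * n⁻¹) * m⁻¹ by group, n1, m1]
      · rw [show m * n * y * (m * n)⁻¹ = m * (n * y * n⁻¹) * m⁻¹ by group, n2, ← conj_inv, m2,
          inv_inv]
  push Not at hmix
  obtain ⟨n, hn, hcase⟩ := hmix
  have hboth : (∃ k ∈ N, k * x * k⁻¹ = x⁻¹ ∧ k * y * k⁻¹ = y) ∧
      (∃ k ∈ N, k * x * k⁻¹ = x ∧ k * y * k⁻¹ = y⁻¹) := by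
    by_cases hc : n * x * n⁻¹ = x ∧ n * y * n⁻¹ ≠ y
    · have n2 := (hy n hn).resolve_left hc.2
      obtain ⟨m, hm, m1⟩ := hflip x hxP hx1 hx
      exact ⟨hstruct n hn m hm hc.1 n2 m1, n, hn, hc.1, n2⟩
    · have hc2 : n * x * n⁻¹ = x⁻¹ ∧ n * y * n⁻¹ ≠ y⁻¹ := hcase fun h1 => by
        by_contra h2
        exact hc ⟨h1, h2⟩
      have n2 := (hy n hn).resolve_right hc2.2
      obtain ⟨m, hm, m2⟩ := hflip y hyP hy1 hy
      refine ⟨⟨n, hn, hc2.1, n2⟩, ?_⟩
      rcases hx m hm with m1 | m1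
      · exact ⟨m, hm, m1, m2⟩
      · refine ⟨m * n, mul_mem hm hn, ?_, ?_⟩
        · rw [show m * n * x * (m * n)⁻¹ = m * (n * x * n⁻¹) * m⁻¹ by group, hc2.1, ← conj_inv, m1,
            inv_inv]
        · rw [show m * n * y * (m * n)⁻¹ = m * (n * y * n⁻¹) * m⁻¹ by group, n2, m2]
  exact ⟨x, y, ⟨hP9, hxP, hyP, hxpow, hypow, hx1, hindep, hgen, fun n hn => ⟨hx n hn, hy n hn⟩,
    hboth.1, hboth.2⟩⟩

end Cfsg.Agent.NinePQ
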