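import Mathlib

/-!
# Arithmetic for groups of order `9 * 2 ^ a * q ^ b`
-/

set_option autoImplicit false

namespace Cfsg.Agent.NinePQ

theorem prime_pow_of_odd_dvd {q a b d : ℕ} (hq : q.Prime) (hd : d ∣ 2 ^ a * q ^ b)
    (hodd : ¬ 2 ∣ d) : ∃ j, d = q ^ j := by
  have hc : Nat.Coprime d (2 ^ a) :=
    Nat.Coprime.pow_right _ ((Nat.prime_two.coprime_iff_not_dvd.mpr hodd).symm)
  obtain ⟨j, -, hj⟩ := (Nat.dvd_prime_pow hq).mp (hc.dvd_of_dvd_mul_left hd)
  exact ⟨j, hj⟩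

theorem two_pow_of_not_dvd {q a b d : ℕ} (hq : q.Prime) (hd : d ∣ 2 ^ a * q ^ b)
    (hnot : ¬ q ∣ d) : ∃ i, d = 2 ^ i := by
  have hc : Nat.Coprime d (q ^ b) :=
    Nat.Coprime.pow_right _ ((hq.coprime_iff_not_dvd.mpr hnot).symm)
  obtain ⟨i, -, hi⟩ := (Nat.dvd_prime_pow Nat.prime_two).mp (hc.dvd_of_dvd_mul_right hd)
  exact ⟨i, hi⟩

/-- A prime power next to a power of two is a prime, or a power of three. -/
theorem prime_pow_adj {q i j : ℕ} (hq : q.Prime) (hq2 : q ≠ 2) (hq3 : q ≠ 3) (hi : 1 ≤ i)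
    (hj : 1 ≤ j) (h : q ^ j = 2 ^ i + 1 ∨ q ^ j + 1 = 2 ^ i) : j = 1 := by
  have hq5 : 5 ≤ q := by
    have := hq.two_le
    have h4 : q ≠ 4 := fun h => by rw [h] at hq; norm_num at hq
    omega
  rcases Nat.even_or_odd j with ⟨k, hk⟩ | hodd
  · -- even exponent
    exfalso
    have hk1 : 1 ≤ k := by omega
    have hx : q ≤ q ^ k := Nat.le_self_pow (by omega) q
    obtain ⟨x, hxdef⟩ : ∃ x, x = q ^ k := ⟨_, rfl⟩
    have hsq : q ^ j = x * x := by rw [hk, pow_add, hxdef]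
    have hxodd : Odd x := hxdef ▸ (hq.odd_of_ne_two hq2).pow
    obtain ⟨r, hr⟩ := hxodd
    rcases h with h | h
    · have h2 : (x - 1) * (x + 1) = 2 ^ i := by
        rw [hsq] at h
        have : (x - 1) * (x + 1) = x * x - 1 := by
          rw [mul_comm, ← Nat.sq_sub_sq, one_pow, sq]
        rw [this, h, Nat.add_sub_cancel]
      obtain ⟨u, -, hu⟩ := (Nat.dvd_prime_pow Nat.prime_two).mp (Dvd.intro _ h2 : x - 1 ∣ 2 ^ i)
      obtain ⟨w, -, hw⟩ := (Nat.dvd_prime_pow Nat.prime_two).mp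
        (Dvd.intro_left _ h2 : x + 1 ∣ 2 ^ i)
      have hx5 : 5 ≤ x := by rw [hxdef]; omega
      have h4u : 4 ∣ x - 1 := by
        rw [hu]
        refine pow_dvd_pow 2 (?_ : 2 ≤ u)
        by_contra hlt
        have : 2 ^ u ≤ 2 ^ 1 := Nat.pow_le_pow_right (by norm_num) (by omega)
        omega
      have h4w : 4 ∣ x + 1 := by
        rw [hw]
        refine pow_dvd_pow 2 (?_ : 2 ≤ w)
        by_contra hlt
        have : 2 ^ w ≤ 2 ^ 1 := Nat.pow_le_pow_right (by norm_num) (by omega)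
        omega
      omega
    · rw [hsq] at h
      have h4 : x * x + 1 = 4 * (r * r + r) + 2 := by rw [hr]; ring
      rw [h4] at h
      rcases Nat.lt_or_ge i 2 with hi2 | hi2
      · have : i = 1 := by omega
        subst this
        have : x * x ≥ 25 := Nat.mul_le_mul (by omega : 5 ≤ x) (by omega : 5 ≤ x)
        omega
      · obtain ⟨w, hw⟩ := pow_dvd_pow 2 hi2
        omega
  · -- odd exponent
    by_contra hj1
    have hqodd : ¬ 2 ∣ q := fun h2 => hq2 ((Nat.prime_dvd_prime_iff_eq Nat.prime_two hq).mp h2).symm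
    have hpar : ∀ s : ℤ, (s = 1 ∨ s = -1) →
        Odd (∑ k ∈ Finset.range j, (s * (q : ℤ)) ^ k) := by
      intro s hs
      have hq' : Odd (s * (q : ℤ)) := by
        have : Odd (q : ℤ) := by exact_mod_cast hq.odd_of_ne_two hq2
        rcases hs with rfl | rfl
        · simpa using this
        · simpa using this.neg
      have hn : ∀ n : ℕ, Odd (∑ k ∈ Finset.range n, (s * (q : ℤ)) ^ k) ↔ Odd n := by
        intro n
        induction n with
        | zero => simp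
        | succ n ih =>
          rw [Finset.sum_range_succ, Int.odd_add, ih, Nat.odd_add_one]
          simp [Int.not_even_iff_odd.mpr hq'.pow]
      exact (hn j).mpr hodd
    have key : ∀ (n : ℤ), Odd n → ∀ m : ℤ, m * n = 2 ^ i → n = 1 ∨ n = -1 := by
      intro n hn m hm
      have h2 : n.natAbs ∣ 2 ^ i := by
        have h3 : n ∣ (2 : ℤ) ^ i := ⟨m, by rw [← hm]; ring⟩
        have h4 := Int.natAbs_dvd_natAbs.mpr h3
        rwa [Int.natAbs_pow] at h4
      obtain ⟨u, -, hu⟩ := (Nat.dvd_prime_pow Nat.prime_two).mp h2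
      rcases Nat.eq_zero_or_pos u with rfl | hu0
      · rw [pow_zero] at hu
        omega
      · exfalso
        have : 2 ∣ n.natAbs := hu ▸ dvd_pow_self 2 hu0.ne'
        obtain ⟨c, hc⟩ := hn
        omega
    have hbig : (q : ℤ) * q ≤ (q : ℤ) ^ j := by
      rw [← sq]
      exact pow_le_pow_right₀ (by exact_mod_cast hq.one_lt.le) (by omega)
    rcases h with h | h
    · have h' : ((q : ℤ) ^ j) = 2 ^ i + 1 := by exact_mod_cast h
      have hg := geom_sum_mul (1 * (q : ℤ)) j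
      rw [one_mul] at hg
      have hs := hpar 1 (Or.inl rfl)
      rw [one_mul] at hs
      rcases key _ hs ((q : ℤ) - 1) (by rw [mul_comm, hg, h']; ring) with e | e <;>
        rw [e] at hg <;> nlinarith
    · have h' : ((q : ℤ) ^ j) + 1 = 2 ^ i := by exact_mod_cast h
      have hg := geom_sum_mul ((-1 : ℤ) * q) j
      have hs := hpar (-1) (Or.inr rfl)
      rw [mul_pow, hodd.neg_one_pow] at hg
      rcases key _ hs ((q : ℤ) + 1) (by nlinarith [hg]) with e | e <;>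
        rw [e] at hg <;> nlinarith

/-- Two coprime divisors of `2 ^ a * q ^ b` differing by one are a power of two and `q`. -/
theorem exists_split {q a b d e : ℕ} (hq : q.Prime) (hq2 : q ≠ 2) (hq3 : q ≠ 3)
    (hd : d ∣ 2 ^ a * q ^ b) (he : e ∣ 2 ^ a * q ^ b) (hd1 : 1 < d) (he1 : 1 < e)
    (hadj : d + 1 = e ∨ e + 1 = d) :
    ∃ i, 1 ≤ i ∧ ((d = 2 ^ i ∧ e = q) ∨ (d = q ∧ e = 2 ^ i)) ∧ (q = 2 ^ i + 1 ∨ q + 1 = 2 ^ i) := by
  have hcop : ∀ m, m ∣ d → m ∣ e → m = 1 := by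
    intro m h1 h2
    rcases hadj with h | h
    · exact Nat.dvd_one.mp ((Nat.dvd_add_right h1).mp (h ▸ h2))
    · exact Nat.dvd_one.mp ((Nat.dvd_add_right h2).mp (h ▸ h1))
  have main : ∀ u v, u ∣ 2 ^ a * q ^ b → v ∣ 2 ^ a * q ^ b → 1 < u → 1 < v → ¬ 2 ∣ u → 2 ∣ v →
      (∀ m, m ∣ u → m ∣ v → m = 1) → (u + 1 = v ∨ v + 1 = u) →
      ∃ i, 1 ≤ i ∧ u = q ∧ v = 2 ^ i ∧ (q = 2 ^ i + 1 ∨ q + 1 = 2 ^ i) := by
    intro u v hu hv hu1 hv1 huo hve hc hadj
    obtain ⟨j, rfl⟩ := prime_pow_of_odd_dvd hq hu huo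
    have hj : 1 ≤ j := by
      rcases Nat.eq_zero_or_pos j with rfl | h
      · simp at hu1
      · exact h
    obtain ⟨i, rfl⟩ := two_pow_of_not_dvd hq hv
      fun h => hq.ne_one (hc q (dvd_pow_self q (by omega)) h)
    have hi : 1 ≤ i := by
      rcases Nat.eq_zero_or_pos i with rfl | h
      · simp at hv1
      · exact h
    have hh : q ^ j = 2 ^ i + 1 ∨ q ^ j + 1 = 2 ^ i := by omega
    have := prime_pow_adj hq hq2 hq3 hi hj hh
    subst this
    rw [pow_one] at hh ⊢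
    exact ⟨i, hi, rfl, rfl, hh⟩
  by_cases h2 : 2 ∣ d
  · have he2 : ¬ 2 ∣ e := fun h => absurd (hcop 2 h2 h) (by norm_num)
    obtain ⟨i, h1, h3, h4, h5⟩ := main e d he hd he1 hd1 he2 h2 (fun m a b => hcop m b a) hadj.symm
    exact ⟨i, h1, Or.inl ⟨h4, h3⟩, h5⟩
  · have he2 : 2 ∣ e := by omega
    obtain ⟨i, h1, h3, h4, h5⟩ := main d e hd he hd1 he1 h2 he2 hcop hadj
    exact ⟨i, h1, Or.inr ⟨h3, h4⟩, h5⟩

/-- A congruence `c * 2 ^ t ≡ 1` modulo a prime next to `2 ^ i`, with `c` in `1, 3, 9`. -/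
theorem congr_small {q i c t : ℕ} (h : q = 2 ^ i + 1 ∨ q + 1 = 2 ^ i)
    (hc : c = 1 ∨ c = 3 ∨ c = 9) (hcong : c * 2 ^ t ≡ 1 [MOD q]) : i ≤ 4 ∨ c = 1 := by
  by_contra hno
  push Not at hno
  obtain ⟨hi, hc1⟩ := hno
  have h32 : (32 : ℤ) ≤ 2 ^ i := by
    calc (32 : ℤ) = 2 ^ 5 := by norm_num
      _ ≤ 2 ^ i := pow_le_pow_right₀ (by norm_num) (by omega)
  obtain ⟨s, hs, hqs⟩ : ∃ s : ℤ, (s = 1 ∨ s = -1) ∧ (q : ℤ) = 2 ^ i - s := by
    rcases h with h | h
    · exact ⟨-1, Or.inr rfl, by subst h; push_cast; ring⟩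
    · refine ⟨1, Or.inl rfl, ?_⟩
      have : (q : ℤ) + 1 = 2 ^ i := by exact_mod_cast h
      omega
  have hmod : (2 : ℤ) ^ i ≡ s [ZMOD q] := Int.modEq_iff_dvd.mpr ⟨-1, by rw [hqs]; ring⟩
  have hcong' : (c : ℤ) * 2 ^ t ≡ 1 [ZMOD q] := by exact_mod_cast Int.natCast_modEq_iff.mpr hcong
  set r := t % i with hr
  have hri : r < i := Nat.mod_lt _ (by omega)
  have ht : (2 : ℤ) ^ t = (2 ^ i) ^ (t / i) * 2 ^ r := by
    rw [← pow_mul, ← pow_add, Nat.div_add_mod]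
  set u : ℤ := s ^ (t / i) with hu
  have hu' : u = 1 ∨ u = -1 := by
    rcases hs with rfl | rfl
    · exact Or.inl (one_pow _)
    · exact neg_one_pow_eq_or ℤ _
  have h1 : (c : ℤ) * (u * 2 ^ r) ≡ 1 [ZMOD q] := by
    refine Int.ModEq.trans ?_ hcong'
    rw [ht]
    exact ((hmod.pow _).symm.mul_right _).mul_left _
  obtain ⟨k, hk⟩ : ∃ k, k = i - r := ⟨_, rfl⟩
  have h2 : (c : ℤ) * u * s ≡ 2 ^ k [ZMOD q] := by
    have h3 := h1.mul_right ((2 : ℤ) ^ k)
    rw [one_mul, mul_assoc, mul_assoc, ← pow_add, hk, Nat.add_sub_cancel' hri.le] at h3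
    rw [hk]
    refine Int.ModEq.trans ?_ h3
    rw [← mul_assoc]
    exact hmod.symm.mul_left _
  obtain ⟨w, hw⟩ := Int.modEq_iff_dvd.mp h2
  obtain ⟨v, hv, hcv⟩ : ∃ v : ℤ, (v = 1 ∨ v = -1) ∧ (c : ℤ) * u * s = v * c := by
    refine ⟨u * s, ?_, by ring⟩
    rcases hu' with h' | h' <;> rcases hs with h'' | h'' <;> simp [h', h'']
  rw [hcv] at hw
  have hc39 : (c : ℤ) = 3 ∨ (c : ℤ) = 9 := by omega
  rcases Nat.lt_or_ge k i with hki | hki
  · have hk2 : (2 : ℤ) * 2 ^ k ≤ 2 ^ i := by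
      rw [← pow_succ']
      exact pow_le_pow_right₀ (by norm_num) (by omega)
    have hk0 : (2 : ℤ) ∣ 2 ^ k := dvd_pow_self 2 (by omega)
    have hkpos : (0 : ℤ) < 2 ^ k := by positivity
    rcases lt_trichotomy w 0 with hw0 | hw0 | hw0
    · have h5 : (q : ℤ) * w ≤ -q := by nlinarith
      rcases hv with rfl | rfl <;> rcases hs with rfl | rfl <;> omega
    · subst hw0
      rcases hv with rfl | rfl <;> omega
    · have h5 : (q : ℤ) ≤ (q : ℤ) * w := by nlinarith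
      rcases hv with rfl | rfl <;> rcases hs with rfl | rfl <;> omega
  · have hkeq : k = i := by omega
    rw [hkeq] at hw
    rcases lt_trichotomy w 1 with hw1 | rfl | hw1
    · have h5 : (q : ℤ) * w ≤ 0 := by nlinarith
      rcases hv with rfl | rfl <;> rcases hs with rfl | rfl <;> omega
    · rcases hv with rfl | rfl <;> rcases hs with rfl | rfl <;> omega
    · have h5 : (q : ℤ) * 2 ≤ (q : ℤ) * w := by nlinarith
      rcases hv with rfl | rfl <;> rcases hs with rfl | rfl <;> omega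

/-- The three small primes next to a power of two. -/
theorem small_cases {q i : ℕ} (hq : q.Prime) (hq3 : q ≠ 3) (hi1 : 1 ≤ i) (hi : i ≤ 4)
    (h : q = 2 ^ i + 1 ∨ q + 1 = 2 ^ i) : (q = 5 ∧ i = 2) ∨ (q = 7 ∧ i = 3) ∨ (q = 17 ∧ i = 4) := by
  have h2 := hq.two_le
  have h9 : q ≠ 9 := fun h => by rw [h] at hq; norm_num at hq
  have h15 : q ≠ 15 := fun h => by rw [h] at hq; norm_num at hq
  have hv : i = 1 ∨ i = 2 ∨ i = 3 ∨ i = 4 := by omega
  rcases hv with rfl | rfl | rfl | rfl <;> norm_num at h ⊢ <;> omega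

end Cfsg.Agent.NinePQ
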