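import Cfsg.Agent.NinePQ.Arith
import Cfsg.Agent.Lib.SmallGroups.ThreePrimes
import Cfsg.Agent.Lib.SmallGroups.SelfCent.Count
import Cfsg.Agent.Lib.SmallGroups.SelfCent.Two
import Cfsg.Agent.Lib.BlocksCore.DefectZero
import Cfsg.Agent.BC86.CoprimeClass
import Mathlib.RingTheory.IntegralDomain

/-!
# Simple groups of order `9 * 2 ^ a * q ^ b` with an irreducible character of degree `q`
-/

set_option autoImplicit false
set_option linter.style.haveILetI false

namespace Cfsg.Agent.NinePQ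

open Subgroup Cfsg.Agent.BlocksCore

variable {G : Type*} [Group G] [Fintype G]

/-- Degrees prime to `3` divide `2 ^ a * q ^ b`. -/
theorem dvd_of_not_three {n d m : ℕ} (hn : n = 9 * m) (hd : d ∣ n) (h3 : ¬ 3 ∣ d) : d ∣ m := by
  have hc : Nat.Coprime d 9 := by
    rw [show (9 : ℕ) = 3 ^ 2 by norm_num]
    exact Nat.Coprime.pow_right _ ((Nat.prime_three.coprime_iff_not_dvd.mpr h3).symm)
  exact hc.dvd_of_dvd_mul_left (hn ▸ hd)

theorem faithful [IsSimpleGroup G] {χ : Cfsg.IrrCharacter G}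
    (hχ : χ ≠ BlocksDefect.oneIrr G) (g : G) (hg : (χ : G → ℂ) g = (χ : G → ℂ) 1) : g = 1 := by
  by_contra hne
  refine SmallGroups.SelfCent.value_ne_deg (χ := χ) ?_ hne ?_
  · intro h
    exact hχ (h.trans rfl)
  · rw [hg, (SmallGroups.SelfCent.Setup.deg_spec χ).2.2]

theorem ne_one_of_deg {χ : Cfsg.IrrCharacter G} (h : 1 < charDegree (χ : G → ℂ)) :
    χ ≠ BlocksDefect.oneIrr G := by
  rintro rfl
  have h1 := irr_one_eq (BlocksDefect.oneIrr G)
  have h2 : charDegree ((BlocksDefect.oneIrr G) : G → ℂ) = 1 := by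
    have : (BlocksDefect.oneIrr G : G → ℂ) 1 = 1 := rfl
    rw [this] at h1
    exact_mod_cast h1.symm
  omega

theorem one_lt_deg [IsSimpleGroup G] (hG : ¬ IsMulCommutative G) {χ : Cfsg.IrrCharacter G}
    (hχ : χ ≠ BlocksDefect.oneIrr G) : 1 < charDegree (χ : G → ℂ) := by
  have h0 := charDegree_pos χ
  rcases Nat.lt_or_ge 1 (charDegree (χ : G → ℂ)) with h | h
  · exact h
  exfalso
  apply hχ
  have h1 : charDegree (χ : G → ℂ) = 1 := by omega
  have h2 : SmallGroups.SelfCent.Setup.deg χ = 1 := by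
    have e1 := (SmallGroups.SelfCent.Setup.deg_spec χ).2.2
    rw [irr_one_eq, h1] at e1
    exact_mod_cast e1.symm
  exact ((SmallGroups.SelfCent.deg_eq_one_iff hG χ).mp h2).trans rfl

/-- A nonlinear character of a simple group vanishes where the class is prime to the degree. -/
theorem apply_eq_zero [IsSimpleGroup G] (hG : ¬ IsMulCommutative G) {χ : Cfsg.IrrCharacter G}
    (hχ : χ ≠ BlocksDefect.oneIrr G) {g : G} (hg : g ≠ 1)
    (hcop : Nat.Coprime (charDegree (χ : G → ℂ)) (centralizer ({g} : Set G)).index) :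
    (χ : G → ℂ) g = 0 := by
  refine (BC86.apply_eq_zero_or_mem_center χ (faithful hχ) g hcop).resolve_right fun hz => ?_
  rcases Subgroup.Normal.eq_bot_or_eq_top (inferInstance : (center G).Normal) with h | h
  · exact hg (by simpa [h] using hz)
  · exact hG (center_eq_top_iff.mp h)

/-- If a prime `q` is a character degree, the Sylow `q`-subgroups have order `q`. -/
theorem card_sylow_of_prime_degree [IsSimpleGroup G] (hG : ¬ IsMulCommutative G) {q : ℕ}
    [hq : Fact q.Prime] {χ : Cfsg.IrrCharacter G} (hdeg : charDegree (χ : G → ℂ) = q)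
    (S : Sylow q G) : Nat.card (S : Subgroup G) = q := by
  classical
  have hχ : χ ≠ BlocksDefect.oneIrr G := ne_one_of_deg (hdeg ▸ hq.out.one_lt)
  haveI : Fintype (S : Subgroup G) := Fintype.ofFinite _
  haveI : DecidableEq (S : Subgroup G) := Classical.decEq _
  -- vanishing at central elements
  have hvan : ∀ z : (S : Subgroup G), z ∈ center (S : Subgroup G) → z ≠ 1 →
      (χ : G → ℂ) (z : G) = 0 := by
    intro z hz hz1
    refine apply_eq_zero hG hχ (fun h => hz1 (Subtype.ext h)) ?_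
    rw [hdeg, hq.out.coprime_iff_not_dvd]
    intro hdvd
    have hle : (S : Subgroup G) ≤ centralizer ({(z : G)} : Set G) := fun s hs =>
      mem_centralizer_singleton_iff.mpr
        (congrArg Subtype.val (mem_center_iff.mp hz ⟨s, hs⟩))
    exact S.not_dvd_index' FiniteIndex.index_ne_zero (hdvd.trans (index_dvd_of_le hle))
  obtain ⟨m, hm⟩ := CharCore.IsCharacter.exists_sum
    (CharCore.isCharacter_restrict (CharCore.irr_isCharacter χ) (S : Subgroup G))
  have hm' : ∀ s : (S : Subgroup G), (χ : G → ℂ) (s : G) =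
      ∑ ψ : Cfsg.IrrCharacter (S : Subgroup G), (m ψ : ℂ) * (ψ : _ → ℂ) s := fun s => by
    have := congrFun hm s
    simpa using this
  have hsum : q = ∑ ψ : Cfsg.IrrCharacter (S : Subgroup G),
      m ψ * charDegree ψ.1 := by
    have h1 := hm' 1
    rw [OneMemClass.coe_one, irr_one_eq, hdeg] at h1
    simp only [irr_one_eq] at h1
    exact_mod_cast h1
  obtain ⟨k, hk⟩ := IsPGroup.iff_card.mp S.2
  have hlin : ∀ ψ, m ψ ≠ 0 → charDegree ψ.1 = 1 := by
    intro ψ hψ
    by_contra hne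
    obtain ⟨j, -, hj⟩ := (Nat.dvd_prime_pow hq.out).mp (hk ▸ charDegree_dvd_card ψ)
    have hj0 : j ≠ 0 := fun h => hne (by rw [hj, h, pow_zero])
    have hle : q ≤ charDegree ψ.1 := hj ▸ Nat.le_self_pow hj0 q
    have hsingle : ∀ φ, φ ≠ ψ → m φ = 0 := by
      intro φ hφ
      by_contra hmφ
      have h2 : m φ * charDegree φ.1 +
          m ψ * charDegree ψ.1 ≤ q := by
        rw [← Finset.sum_pair hφ (f := fun φ : Cfsg.IrrCharacter (S : Subgroup G) =>
          m φ * charDegree φ.1)]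
        exact (Finset.sum_le_univ_sum_of_nonneg (fun _ => Nat.zero_le _)).trans_eq hsum.symm
      have h3 := charDegree_pos φ
      have h4 : 0 < m φ * charDegree φ.1 :=
        Nat.mul_pos (Nat.pos_of_ne_zero hmφ) h3
      have h5 : q ≤ m ψ * charDegree ψ.1 :=
        hle.trans (Nat.le_mul_of_pos_left _ (Nat.pos_of_ne_zero hψ))
      omega
    haveI : Nontrivial (center (S : Subgroup G)) := by
      haveI : Nontrivial (S : Subgroup G) := by
        rw [← Finite.one_lt_card_iff_nontrivial, hk]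
        refine Nat.one_lt_pow ?_ hq.out.one_lt
        rintro rfl
        have : charDegree ψ.1 ∣ 1 := by
          have h1 := charDegree_dvd_card ψ
          rwa [hk, pow_zero] at h1
        exact hne (Nat.dvd_one.mp this)
      exact S.2.center_nontrivial
    obtain ⟨⟨z, hz⟩, hz1⟩ := exists_ne (1 : center (S : Subgroup G))
    have hz1' : z ≠ 1 := fun h => hz1 (Subtype.ext h)
    have h1 := hvan z hz hz1'
    rw [hm', Finset.sum_eq_single ψ (fun φ _ hφ => by rw [hsingle φ hφ, Nat.cast_zero, zero_mul])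
      (fun h => absurd (Finset.mem_univ _) h)] at h1
    have hψ0 : (ψ : _ → ℂ) z = 0 := by simpa [hψ] using h1
    obtain ⟨f, n, ρ, hirr, rfl⟩ := ψ
    haveI := hirr
    have ha : Cfsg.IsClassFunction (S : Subgroup G)
        (fun g => if g = z then (1 : ℂ) else 0) := by
      intro g h
      have hzh : h * z * h⁻¹ = z := by rw [mem_center_iff.mp hz h, mul_inv_cancel_right]
      refine if_congr ⟨fun h' => ?_, fun h' => by rw [h', hzh]⟩ rfl rfl
      rw [← hzh] at h'
      exact mul_left_cancel (mul_right_cancel h')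
    have hs := sum_smul_eq_omega_smul ρ ha
    simp only [ite_smul, one_smul, zero_smul, Finset.sum_ite_eq', Finset.mem_univ, if_true] at hs
    set w := omega ρ.character (fun g => if g = z then (1 : ℂ) else 0)
    have hval : ρ.character z = w * ρ.character 1 := by
      rw [Representation.character, hs, map_smul, smul_eq_mul, Representation.character,
        map_one ρ]
    rcases mul_eq_zero.mp (hval.symm.trans hψ0) with hw | hw
    · rw [hw, zero_smul] at hs
      have h2 : ρ.character 1 = 0 := by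
        rw [Representation.character, show ρ (1 : (S : Subgroup G)) = ρ z * ρ z⁻¹ by
          rw [← map_mul, mul_inv_cancel], hs, zero_mul, map_zero]
      exact CharCore.irr_apply_one_ne_zero ⟨ρ.character, n, ρ, hirr, rfl⟩ h2
    · exact CharCore.irr_apply_one_ne_zero ⟨ρ.character, n, ρ, hirr, rfl⟩ hw
  -- hence commutative
  have hcomm : ∀ s t : (S : Subgroup G), s * t = t * s := by
    intro s t
    have h1 : (χ : G → ℂ) ((s * t * s⁻¹ * t⁻¹ : (S : Subgroup G)) : G) = (χ : G → ℂ) 1 := by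
      rw [← OneMemClass.coe_one (S : Subgroup G), hm', hm']
      refine Finset.sum_congr rfl fun ψ _ => ?_
      by_cases hψ : m ψ = 0
      · rw [hψ, Nat.cast_zero, zero_mul, zero_mul]
      obtain ⟨f, hf⟩ := CharCore.IsCharacter.exists_hom_of_degree_one
        (CharCore.irr_isCharacter ψ) (by rw [irr_one_eq, hlin ψ hψ, Nat.cast_one])
      have e : f (s * t * s⁻¹ * t⁻¹) = f 1 := by
        rw [map_mul, map_mul, map_mul, map_inv, map_inv, map_one,
          mul_comm (f s) (f t), mul_inv_cancel_right, mul_inv_cancel]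
      rw [hf]
      show _ * ((f _ : ℂˣ) : ℂ) = _ * ((f _ : ℂˣ) : ℂ)
      rw [e]
    have h2 := faithful hχ _ h1
    have h3 : s * t * s⁻¹ * t⁻¹ = 1 := Subtype.ext h2
    rwa [mul_inv_eq_one, mul_inv_eq_iff_eq_mul] at h3
  -- hence regular
  obtain ⟨k', hk'⟩ := CharCore.IsCharacter.exists_classInner_eq_natCast
    (CharCore.isCharacter_restrict (CharCore.irr_isCharacter χ) (S : Subgroup G))
    (CharCore.isCharacter_one (G := (S : Subgroup G)))
  rw [CharCore.classInner_def, Finset.sum_eq_single 1] at hk'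
  · simp only [Pi.one_apply, map_one, mul_one, OneMemClass.coe_one, irr_one_eq, hdeg] at hk'
    rw [inv_mul_eq_iff_eq_mul₀ (Nat.cast_ne_zero.mpr Nat.card_pos.ne')] at hk'
    have h : q = Nat.card (S : Subgroup G) * k' := by exact_mod_cast hk'
    rcases (Nat.dvd_prime hq.out).mp (Dvd.intro _ h.symm : Nat.card (S : Subgroup G) ∣ q) with h1 | h1
    · exfalso
      have hdvd : q ∣ Nat.card G := hdeg ▸ charDegree_dvd_card χ
      have := S.dvd_card_of_dvd_card hdvd
      rw [h1, Nat.dvd_one] at this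
      exact hq.out.ne_one this
    · exact h1
  · intro z _ hz
    rw [hvan z (mem_center_iff.mpr fun s => hcomm s z) hz, zero_mul]
  · exact fun h => absurd (Finset.mem_univ _) h

/-- If a prime `q` is a character degree, then `q` divides `|G|` exactly once. -/
theorem exponent_one [IsSimpleGroup G] (hG : ¬ IsMulCommutative G) {q a b : ℕ} (hq : q.Prime)
    (hq2 : q ≠ 2) (hq3 : q ≠ 3) (hcard : Nat.card G = 9 * 2 ^ a * q ^ b)
    {χ : Cfsg.IrrCharacter G} (hdeg : charDegree (χ : G → ℂ) = q) : b = 1 := by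
  haveI : Fact q.Prime := ⟨hq⟩
  have h9 : ¬ q ∣ 9 * 2 ^ a := by
    intro h
    rcases hq.dvd_mul.mp h with h | h
    · exact hq3 ((Nat.prime_dvd_prime_iff_eq hq Nat.prime_three).mp
        (hq.dvd_of_dvd_pow (show q ∣ 3 ^ 2 by norm_num; exact h)))
    · exact hq2 ((Nat.prime_dvd_prime_iff_eq hq Nat.prime_two).mp (hq.dvd_of_dvd_pow h))
  have h := card_sylow_of_prime_degree hG hdeg (default : Sylow q G)
  rw [SmallGroups.card_sylow_eq (p := q) (a := b) (m := 9 * 2 ^ a) (by rw [hcard]; ring) h9] at h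
  exact (Nat.pow_right_injective hq.two_le) (h.trans (pow_one q).symm)

section

variable [IsSimpleGroup G] (hG : ¬ IsMulCommutative G) {q a : ℕ} (hq : q.Prime) (hq2 : q ≠ 2)
  (hq3 : q ≠ 3) (hcard : Nat.card G = 9 * 2 ^ a * q)

include hG hq hq2 hq3 hcard

theorem sylow_data (S : Sylow q G) : Nat.card ↥(S : Subgroup G) = q ∧
    centralizer ((S : Subgroup G) : Set G) = (S : Subgroup G) ∧
    ∃ e, 2 ≤ e ∧ e ∣ q - 1 ∧ Nat.card ↥(normalizer ((S : Subgroup G) : Set G)) = e * q ∧
      e * Nat.card (Sylow q G) = 2 ^ a * 3 ^ 2 := by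
  haveI : Fact q.Prime := ⟨hq⟩
  exact SmallGroups.exists_index_three_primes hG Nat.prime_two Nat.prime_three (by norm_num)
    (fun h => hq2 h.symm) (fun h => hq3 h.symm) (by rw [hcard]; ring) S

/-- An element of order `q` commutes only with its powers. -/
theorem mem_zpowers_of_commute {u y : G} (hu : orderOf u = q) (hc : Commute u y) :
    y ∈ zpowers u := by
  haveI : Fact q.Prime := ⟨hq⟩
  obtain ⟨S, hS⟩ := (IsPGroup.of_card (n := 1) (by rw [Nat.card_zpowers, hu, pow_one]) :
    IsPGroup q (zpowers u)).exists_le_sylow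
  obtain ⟨hS1, hS2, -⟩ := sylow_data hG hq hq2 hq3 hcard S
  have he : zpowers u = (S : Subgroup G) :=
    eq_of_le_of_card_ge hS (by rw [Nat.card_zpowers, hu, hS1])
  rw [he, ← hS2, ← he, mem_centralizer_iff]
  rintro z ⟨k, rfl⟩
  exact (hc.zpow_left k).eq

/-- A subgroup centralising a nontrivial element of order prime to `q` has order prime to `q`. -/
theorem not_dvd_of_central {H : Subgroup G} {y : G} (hy : y ≠ 1) (hyq : ¬ q ∣ orderOf y)
    (hH : H ≤ centralizer ({y} : Set G)) : ¬ q ∣ Nat.card H := by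
  haveI : Fact q.Prime := ⟨hq⟩
  intro hd
  obtain ⟨u, hu⟩ := exists_prime_orderOf_dvd_card' q hd
  have hu' : orderOf (u : G) = q := (orderOf_coe u).trans hu
  obtain ⟨k, hk⟩ := mem_zpowers_of_commute hG hq hq2 hq3 hcard hu'
    (mem_centralizer_singleton_iff.mp (hH u.2))
  simp only at hk
  have hdvd : orderOf y ∣ q := hu' ▸ hk ▸ orderOf_dvd_of_mem_zpowers (zpow_mem_zpowers _ k)
  rcases (Nat.dvd_prime hq).mp hdvd with h | h
  · exact hy (orderOf_eq_one_iff.mp h)
  · exact hyq h.symm.dvd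

/-- If `9` divides the order of the automiser of a Sylow `q`-subgroup, some element of order `9`
normalises it. -/
theorem exists_nine (S : Sylow q G)
    (h9 : 9 ∣ Nat.card ↥(normalizer ((S : Subgroup G) : Set G))) :
    ∃ x ∈ normalizer ((S : Subgroup G) : Set G), orderOf x = 9 := by
  classical
  haveI : Fact q.Prime := ⟨hq⟩
  haveI : Fact (Nat.Prime 3) := ⟨Nat.prime_three⟩
  obtain ⟨hS1, hS2, -⟩ := sylow_data hG hq hq2 hq3 hcard S
  set N := normalizer ((S : Subgroup G) : Set G)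
  obtain ⟨R, hR⟩ := Sylow.exists_subgroup_card_pow_prime (G := N) 3 (n := 2) h9
  replace hR : Nat.card R = 9 := hR
  obtain ⟨u, hu⟩ := exists_prime_orderOf_dvd_card' (G := ↥(S : Subgroup G)) q (by rw [hS1])
  have hu' : orderOf (u : G) = q := (orderOf_coe u).trans hu
  have hzu : zpowers (u : G) = (S : Subgroup G) :=
    eq_of_le_of_card_ge (zpowers_le.mpr u.2) (by rw [Nat.card_zpowers, hu', hS1])
  have hpow : ∀ g : R, ∃ k : ℕ, ((g : N) : G) * u * ((g : N) : G)⁻¹ = (u : G) ^ k := by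
    intro g
    have hm : ((g : N) : G) * u * ((g : N) : G)⁻¹ ∈ zpowers (u : G) :=
      hzu.symm ▸ (mem_normalizer_iff.mp (g : N).2 _).mp u.2
    obtain ⟨k, hk⟩ := mem_powers_iff_mem_zpowers.mpr hm
    exact ⟨k, hk.symm⟩
  choose f hf using hpow
  have hmod : ∀ k l : ℕ, (u : G) ^ k = (u : G) ^ l → (k : ZMod q) = l := by
    intro k l h
    rw [pow_eq_pow_iff_modEq, hu'] at h
    exact (ZMod.natCast_eq_natCast_iff _ _ _).mpr h
  let φ : R →* ZMod q :=
    { toFun := fun g => (f g : ZMod q)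
      map_one' := by
        rw [← Nat.cast_one]
        exact hmod _ _ (by rw [← hf 1]; simp)
      map_mul' := fun g h => by
        rw [← Nat.cast_mul]
        refine hmod _ _ ?_
        rw [← hf (g * h), pow_mul, ← hf g, conj_pow, ← hf h]
        simp only [coe_mul, mul_inv_rev, mul_assoc] }
  have hinj : Function.Injective φ := by
    intro g h he
    have h1 : ((g : N) : G) * u * ((g : N) : G)⁻¹ = ((h : N) : G) * u * ((h : N) : G)⁻¹ := by
      rw [hf g, hf h, pow_eq_pow_iff_modEq, hu']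
      exact (ZMod.natCast_eq_natCast_iff _ _ _).mp he
    have h2 : Commute (u : G) ((((g : N) : G))⁻¹ * ((h : N) : G)) := by
      refine (mul_left_cancel (a := ((g : N) : G)) ?_ : _ = _)
      calc ((g : N) : G) * ((u : G) * ((((g : N) : G))⁻¹ * ((h : N) : G)))
          = ((g : N) : G) * u * ((g : N) : G)⁻¹ * ((h : N) : G) := by group
        _ = ((h : N) : G) * u := by rw [h1]; group
        _ = _ := by group
    have h3 := mem_zpowers_of_commute hG hq hq2 hq3 hcard hu' h2
    have hd1 : orderOf ((((g : N) : G))⁻¹ * ((h : N) : G)) ∣ q :=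
      hu' ▸ orderOf_dvd_of_mem_zpowers h3
    have hd2 : orderOf ((((g : N) : G))⁻¹ * ((h : N) : G)) ∣ 9 := by
      rw [show (((g : N) : G))⁻¹ * ((h : N) : G) = (((g⁻¹ * h : R) : N) : G) from rfl,
        orderOf_coe, orderOf_coe, ← hR]
      exact orderOf_dvd_natCard _
    have hcop : Nat.Coprime q 9 := by
      rw [show (9 : ℕ) = 3 ^ 2 by norm_num]
      exact Nat.Coprime.pow_right _ ((Nat.coprime_primes hq Nat.prime_three).mpr hq3)
    have h4 : (((g : N) : G))⁻¹ * ((h : N) : G) = 1 :=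
      orderOf_eq_one_iff.mp (Nat.eq_one_of_dvd_coprimes hcop hd1 hd2)
    exact Subtype.ext (Subtype.ext (inv_mul_eq_one.mp h4))
  haveI : IsCyclic R := isCyclic_of_subgroup_isDomain φ hinj
  obtain ⟨r, hr⟩ := IsCyclic.exists_ofOrder_eq_natCard (α := R)
  exact ⟨((r : N) : G), (r : N).2, by rw [orderOf_coe, orderOf_coe, hr, hR]⟩

/-- Either `q` is one of `5, 7, 17`, or an element of order `9` normalises a Sylow
`q`-subgroup. -/
theorem small_or_nine {i : ℕ} (hi1 : 1 ≤ i) (hq' : q = 2 ^ i + 1 ∨ q + 1 = 2 ^ i) :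
    ((q = 5 ∧ i = 2) ∨ (q = 7 ∧ i = 3) ∨ (q = 17 ∧ i = 4)) ∨
      ∃ S : Sylow q G, 9 ∣ q - 1 ∧
        ∃ x ∈ normalizer ((S : Subgroup G) : Set G), orderOf x = 9 := by
  haveI : Fact q.Prime := ⟨hq⟩
  obtain ⟨S⟩ : Nonempty (Sylow q G) := inferInstance
  obtain ⟨-, -, e, -, he1, hN, hn⟩ := sylow_data hG hq hq2 hq3 hcard S
  obtain ⟨k, l, hk, hl, hkl⟩ := Nat.dvd_mul.mp (Dvd.intro _ hn : e ∣ 2 ^ a * 3 ^ 2)
  obtain ⟨u, hu, rfl⟩ := (Nat.dvd_prime_pow Nat.prime_two).mp hk
  obtain ⟨w, hw, rfl⟩ := (Nat.dvd_prime_pow Nat.prime_three).mp hl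
  have hnval : Nat.card (Sylow q G) = 3 ^ (2 - w) * 2 ^ (a - u) := by
    have h1 : e * (3 ^ (2 - w) * 2 ^ (a - u)) = e * Nat.card (Sylow q G) := by
      rw [hn, ← hkl, show 2 ^ u * 3 ^ w * (3 ^ (2 - w) * 2 ^ (a - u)) =
        (2 ^ u * 2 ^ (a - u)) * (3 ^ w * 3 ^ (2 - w)) by ring, ← pow_add, ← pow_add,
        Nat.add_sub_cancel' hu, Nat.add_sub_cancel' hw]
    refine (Nat.eq_of_mul_eq_mul_left ?_ h1).symm
    rw [← hkl]; positivity
  have hc : 3 ^ (2 - w) = 1 ∨ 3 ^ (2 - w) = 3 ∨ 3 ^ (2 - w) = 9 := by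
    have hv : w = 0 ∨ w = 1 ∨ w = 2 := by omega
    rcases hv with rfl | rfl | rfl <;> norm_num
  rcases congr_small hq' hc (hnval ▸ card_sylow_modEq_one q G) with h | h
  · exact Or.inl (small_cases hq hq3 hi1 h hq')
  · refine Or.inr ⟨S, ?_, exists_nine hG hq hq2 hq3 hcard S ?_⟩
    all_goals
      have hw2 : w = 2 := by
        have h5 : 2 - w = 0 := (Nat.pow_eq_one.mp h).resolve_left (by norm_num)
        omega
      subst hw2
      have h9 : 9 ∣ e := hkl ▸ (Dvd.intro_left _ rfl : 3 ^ 2 ∣ 2 ^ u * 3 ^ 2)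
    · exact h9.trans he1
    · rw [hN]; exact h9.mul_right q

end

end Cfsg.Agent.NinePQ
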